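import Groth.Agent.Catenary.Space
import Mathlib.Topology.NoetherianSpace
import Mathlib.Topology.Sober

/-!
Catenary sober spaces and dimension functions.
-/

set_option autoImplicit false
set_option linter.style.haveILetI false
universe u

open TopologicalSpace Topology

namespace Groth.Agent.DimFun

open Catenary

attribute [local instance] specializationOrder

/-- An integer grading makes a partial order catenary. -/
theorem isCat_of_intGrade {α : Type u} [PartialOrder α] (g : α → ℤ) (h1 : ∀ a b, a < b → g a < g b)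
    (h2 : ∀ a b, a ⋖ b → g b = g a + 1) : IsCat α := by
  refine ⟨fun p q _ => ⟨(g q - g p).toNat, fun s hp hq => ?_⟩, fun s t hst hlast hs ht => ?_⟩
  · have : ∀ i : Fin (s.length + 1), g s.head + (i : ℕ) ≤ g (s i) := by
      intro i
      induction i using Fin.induction with
      | zero => simp [RelSeries.head]
      | succ i ih =>
        have := h1 _ _ (s.step i)
        simp only [Fin.val_castSucc] at ih
        simp only [Fin.val_succ, Nat.cast_add, Nat.cast_one]
        omega
    have := this (Fin.last _)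
    rw [← RelSeries.last, hp, hq, Fin.val_last] at this
    omega
  · have key : ∀ r : LTSeries α, Sat r → g r.last = g r.head + r.length := by
      intro r hr
      have : ∀ i : Fin (r.length + 1), g (r i) = g r.head + (i : ℕ) := by
        intro i
        induction i using Fin.induction with
        | zero => simp [RelSeries.head]
        | succ i ih =>
          rw [h2 _ _ (hr i), ih]
          simp [add_assoc]
      exact this (Fin.last _)
    have h3 := key s hs
    have h4 := key t ht
    rw [← hlast, ← hst] at h4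
    omega

theorem isImmediate_of_covBy {Y : Type u} [TopologicalSpace Y] [QuasiSober Y] [T0Space Y] {a b : IrreducibleCloseds Y}
    (h : a ⋖ b) : PtTop.IsImmediateSpecialization (irreducibleSetEquivPoints b) (irreducibleSetEquivPoints a) := by
  have h' := (apply_covBy_apply_iff (irreducibleSetEquivPoints (α := Y))).2 h
  refine ⟨h'.lt.le, fun he => h'.lt.ne he.symm, fun z hz1 hz2 => ?_⟩
  rcases h'.eq_or_eq (c := z) hz2 hz1 with rfl | rfl
  exacts [Or.inr rfl, Or.inl rfl]

theorem isCat_of_dimensionFunction {Y : Type u} [TopologicalSpace Y] [QuasiSober Y] [T0Space Y] {δ : Y → ℤ}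
    (hδ : PtTop.IsDimensionFunction δ) : IsCat (IrreducibleCloseds Y) :=
  isCat_of_intGrade (fun T => δ (irreducibleSetEquivPoints T))
    (fun a b hab => by
      have h := (irreducibleSetEquivPoints (α := Y)).lt_iff_lt.2 hab
      exact hδ.1 _ _ h.le fun he => h.ne he.symm)
    (fun a b hab => hδ.2 _ _ (isImmediate_of_covBy hab))

/-- The length of a saturated chain between two comparable elements. -/
noncomputable def len {α : Type u} [PartialOrder α] (h : IsCat α) (p q : α) : ℤ :=
  open Classical in if hpq : p ≤ q then ((exists_sat h hpq).choose.length : ℤ) else 0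

section len

variable {α : Type u} [PartialOrder α] (h : IsCat α)

theorem len_eq_of_sat {p q : α} (s : LTSeries α) (h1 : s.head = p) (h2 : s.last = q) (hs : Sat s) :
    len h p q = s.length := by
  have hpq : p ≤ q := by rw [← h1, ← h2]; exact le_last s 0
  rw [len, dif_pos hpq]
  obtain ⟨e1, e2, e3, -⟩ := (exists_sat h hpq).choose_spec
  exact congrArg Nat.cast (h.2 _ s (e1.trans h1.symm) (e2.trans h2.symm) e3 hs)

theorem len_add {p q r : α} (hpq : p ≤ q) (hqr : q ≤ r) : len h p r = len h p q + len h q r := by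
  obtain ⟨s, s1, s2, hs, -⟩ := exists_sat h hpq
  obtain ⟨t, t1, t2, ht, -⟩ := exists_sat h hqr
  rw [len_eq_of_sat h s s1 s2 hs, len_eq_of_sat h t t1 t2 ht,
    len_eq_of_sat h (RelSeries.smash s t (s2.trans t1.symm)) (by simp [s1]) (by simp [t2]) (hs.smash ht _),
    RelSeries.smash_length, Nat.cast_add]

/-- A chain of length one. -/
def pair {p q : α} (hpq : p < q) : LTSeries α :=
  ⟨1, ![p, q], fun i => by fin_cases i; simpa using hpq⟩

theorem len_covBy {p q : α} (hpq : p ⋖ q) : len h p q = 1 := by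
  rw [len_eq_of_sat h (p := p) (q := q) (pair hpq.lt) rfl rfl fun i => ?_]
  · rfl
  · fin_cases i
    simpa [pair] using hpq

theorem len_pos {p q : α} (hpq : p < q) : 0 < len h p q := by
  obtain ⟨s, s1, s2, hs, hmax⟩ := exists_sat h hpq.le
  rw [len_eq_of_sat h s s1 s2 hs]
  have : 1 ≤ s.length := hmax (pair hpq) rfl rfl
  omega

end len

/-- The closure of a point as an irreducible closed set. -/
def cl {Y : Type u} [TopologicalSpace Y] (y : Y) : IrreducibleCloseds Y :=
  ⟨closure {y}, isIrreducible_singleton.closure, isClosed_closure⟩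

theorem exists_dimensionFunction {Y : Type u} [TopologicalSpace Y] [NoetherianSpace Y] [QuasiSober Y] [T0Space Y]
    (hcat : IsCat (IrreducibleCloseds Y)) (s : Y) :
    ∃ U : Opens Y, s ∈ U ∧ ∃ δ : U → ℤ, PtTop.IsDimensionFunction δ := by
  classical
  have hdec : ∀ K : Set Y, ∃ 𝒯 : Set (IrreducibleCloseds Y), 𝒯.Finite ∧
      ∀ x, IsClosed K → (x ∈ K ↔ ∃ T ∈ 𝒯, x ∈ (T : Set Y)) := by
    intro K
    by_cases hK : IsClosed K
    · obtain ⟨𝒮, hf, hc, hi, rfl⟩ := NoetherianSpace.exists_finite_set_isClosed_irreducible hK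
      refine ⟨(fun T : IrreducibleCloseds Y => (T : Set Y)) ⁻¹' 𝒮,
        hf.preimage fun a _ b _ hab => IrreducibleCloseds.ext hab, fun x _ => ⟨?_, ?_⟩⟩
      · rintro ⟨t, ht, hx⟩
        exact ⟨⟨t, hi t ht, hc t ht⟩, ht, hx⟩
      · rintro ⟨T, hT, hx⟩
        exact ⟨(T : Set Y), hT, hx⟩
    · exact ⟨∅, Set.finite_empty, fun x h => absurd h hK⟩
  choose 𝒯 hfin hmem using hdec
  let 𝒵 := 𝒯 Set.univ
  let all : Set (IrreducibleCloseds Y) := 𝒵 ∪ ⋃ Z ∈ 𝒵, ⋃ Z' ∈ 𝒵, 𝒯 ((Z : Set Y) ∩ Z')
  have hall : all.Finite := (hfin _).union ((hfin _).biUnion fun Z _ => (hfin _).biUnion fun Z' _ => hfin _)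
  let bad : Set Y := ⋃ T ∈ {T ∈ all | s ∉ (T : Set Y)}, (T : Set Y)
  have hbad : IsClosed bad := (hall.sep _).isClosed_biUnion fun T _ => T.isClosed
  let U : Opens Y := ⟨badᶜ, hbad.isOpen_compl⟩
  have hsU : s ∈ U := fun h => by
    obtain ⟨T, hT, hsT⟩ := Set.mem_iUnion₂.1 h
    exact hT.2 hsT
  have hgood : ∀ x ∈ U, ∀ T ∈ all, x ∈ (T : Set Y) → s ∈ (T : Set Y) := fun x hx T hT hxT => by
    by_contra hsT
    exact hx (Set.mem_iUnion₂.2 ⟨T, ⟨hT, hsT⟩, hxT⟩)
  have hcl : ∀ {y : Y} {T : IrreducibleCloseds Y}, y ∈ (T : Set Y) → cl y ≤ T := fun {y T} hy =>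
    closure_minimal (Set.singleton_subset_iff.2 hy) T.isClosed
  have hZ : ∀ x : U, ∃ Z ∈ 𝒵, (x : Y) ∈ (Z : Set Y) := fun x =>
    (hmem Set.univ (x : Y) isClosed_univ).1 trivial
  choose Z hZmem hxZ using hZ
  have hindep : ∀ (x : U) (Z₁ : IrreducibleCloseds Y), Z₁ ∈ 𝒵 → (x : Y) ∈ (Z₁ : Set Y) →
      len hcat (cl s) (Z x) - len hcat (cl (x : Y)) (Z x) = len hcat (cl s) Z₁ - len hcat (cl (x : Y)) Z₁ := by
    intro x Z₁ h₁ hx₁
    obtain ⟨W, hW, hxW⟩ := (hmem ((Z x : Set Y) ∩ Z₁) (x : Y) ((Z x).isClosed.inter Z₁.isClosed)).1 ⟨hxZ x, hx₁⟩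
    have hsW := hgood x x.2 W (Or.inr (Set.mem_iUnion₂.2 ⟨Z x, hZmem x, Set.mem_iUnion₂.2 ⟨Z₁, h₁, hW⟩⟩)) hxW
    have hWsub : ∀ y ∈ (W : Set Y), y ∈ (Z x : Set Y) ∩ Z₁ := fun y hy =>
      (hmem _ y ((Z x).isClosed.inter Z₁.isClosed)).2 ⟨W, hW, hy⟩
    have hW1 : W ≤ Z x := fun y hy => (hWsub y hy).1
    have hW2 : W ≤ Z₁ := fun y hy => (hWsub y hy).2
    rw [len_add hcat (hcl hsW) hW1, len_add hcat (hcl hxW) hW1, len_add hcat (hcl hsW) hW2, len_add hcat (hcl hxW) hW2]
    ring
  let δ : U → ℤ := fun x => len hcat (cl s) (Z x) - len hcat (cl (x : Y)) (Z x)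
  have hdiff : ∀ x y : U, x ⤳ y → δ x = δ y + len hcat (cl (y : Y)) (cl (x : Y)) := by
    intro x y hxy
    have hxy' : (x : Y) ⤳ y := hxy.map continuous_subtype_val
    have hyx : cl (y : Y) ≤ cl (x : Y) := hcl (T := cl (x : Y)) (specializes_iff_mem_closure.1 hxy')
    have hle : cl (x : Y) ≤ Z x := hcl (hxZ x)
    have hy : δ y = len hcat (cl s) (Z x) - len hcat (cl (y : Y)) (Z x) :=
      hindep y (Z x) (hZmem x) (hle (hyx (subset_closure rfl)))
    rw [hy, len_add hcat hyx hle]
    ring
  refine ⟨U, hsU, δ, fun x y hxy hne => ?_, fun x y hxy => ?_⟩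
  · have h2 : cl (y : Y) < cl (x : Y) := by
      refine lt_of_le_of_ne (hcl (T := cl (x : Y)) (specializes_iff_mem_closure.1 (hxy.map continuous_subtype_val))) fun he => hne ?_
      have h : Inseparable (x : Y) y := inseparable_iff_closure_eq.2 (congrArg (fun T : IrreducibleCloseds Y => (T : Set Y)) he).symm
      exact Subtype.ext h.eq
    have := hdiff x y hxy
    have := len_pos hcat h2
    omega
  · have hxy' : (x : Y) ⤳ y := hxy.1.map continuous_subtype_val
    have hyx : cl (y : Y) ≤ cl (x : Y) := hcl (T := cl (x : Y)) (specializes_iff_mem_closure.1 hxy')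
    have hcov : cl (y : Y) ⋖ cl (x : Y) := by
      refine ⟨lt_of_le_of_ne hyx fun he => hxy.2.1 ?_, fun T h1 h2 => ?_⟩
      · have h : Inseparable (x : Y) y := inseparable_iff_closure_eq.2 (congrArg (fun T : IrreducibleCloseds Y => (T : Set Y)) he).symm
        exact Subtype.ext h.eq
      let z := irreducibleSetEquivPoints T
      have hTz : T = cl z := (irreducibleSetEquivPoints.symm_apply_apply T).symm
      have hzy : z ⤳ (y : Y) := specializes_iff_mem_closure.2 (by
        have := h1.le (subset_closure rfl : (y : Y) ∈ (cl (y : Y) : Set Y))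
        rwa [hTz] at this)
      have hxz : (x : Y) ⤳ z := specializes_iff_mem_closure.2 (h2.le (by rw [hTz]; exact subset_closure rfl))
      have hzU : z ∈ U := hzy.mem_open U.2 y.2
      rcases hxy.2.2 ⟨z, hzU⟩ ((subtype_specializes_iff _ _).2 hxz) ((subtype_specializes_iff _ _).2 hzy) with h | h
      · exact h2.ne (hTz.trans (congrArg (fun w : U => cl (w : Y)) h))
      · exact h1.ne (hTz.trans (congrArg (fun w : U => cl (w : Y)) h)).symm
    rw [hdiff x y hxy.1, len_covBy hcat hcov]

/-- Dimension functions are transported by injective inducing maps onto stable images. -/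
theorem dimensionFunction_comp {X Y : Type u} [TopologicalSpace X] [TopologicalSpace Y] (e : X ≃ₜ Y) {δ : Y → ℤ}
    (hδ : PtTop.IsDimensionFunction δ) : PtTop.IsDimensionFunction (δ ∘ e) := by
  refine ⟨fun x y hxy hne => hδ.1 _ _ (hxy.map e.continuous) fun h => hne (e.injective h), fun x y hxy => ?_⟩
  refine hδ.2 _ _ ⟨hxy.1.map e.continuous, fun h => hxy.2.1 (e.injective h), fun z h1 h2 => ?_⟩
  have h1' := h1.map e.symm.continuous
  have h2' := h2.map e.symm.continuous
  rw [e.symm_apply_apply] at h1' h2'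
  rcases hxy.2.2 _ h1' h2' with h | h
  · exact Or.inl (by rw [← h, e.apply_symm_apply])
  · exact Or.inr (by rw [← h, e.apply_symm_apply])

end Groth.Agent.DimFun
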